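import Cfsg.Agent.Lib.Helper81.FCZ.Defs
import Cfsg.Agent.Lib.Helper71.FpfFrob

set_option autoImplicit false

/-!
# [F-PERF] of project FCZ: perfect subgroups of a Frobenius complement are `SL(2,5)`

Conditional on the hub `HubZ` (the statement of S0690): a non-trivial perfect subgroup `S` of a
Frobenius complement acts faithfully and without fixed points, by conjugation, on the abelian
normal subgroup `Z` of `Helper71.exists_abelian_normal_of_frobeniusComplement`.
-/

universe u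

namespace Cfsg.Agent.Lib.Helper71.FCZ

open Cfsg.Agent.Lib.Helper81.FCZ (Gam IsFC HubZ FcPerf PkgFPerf)

theorem pkgFPerf : PkgFPerf.{u} := by
  intro hub G _ _ hFC S hS1 hSperf
  obtain ⟨L, _, _, H, hH, ⟨e⟩⟩ := hFC
  obtain ⟨Z, hZn, hZ1, -, -, hZf⟩ :=
    Cfsg.Agent.Lib.Helper71.exists_abelian_normal_of_frobeniusComplement H hH
  have := hZn
  -- the conjugation action of `S` on `Z`
  let θ : ↥S →* MulAut ↥Z :=
    (MulAut.conjNormal (H := Z)).comp (H.subtype.comp (e.toMonoidHom.comp S.subtype))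
  have hθ : ∀ (s : ↥S) (z : ↥Z), ((θ s) z : L) = (e (s : G) : L) * z * (e (s : G) : L)⁻¹ := by
    intro s z
    rfl
  obtain ⟨z0, hz0, hz01⟩ : ∃ z ∈ Z, z ≠ 1 := by
    by_contra hcon
    push Not at hcon
    exact hZ1 ((Subgroup.eq_bot_iff_forall Z).mpr hcon)
  have hfix : ∀ s : ↥S, s ≠ 1 → ∀ z : ↥Z, (θ s) z = z → z = 1 := by
    intro s hs z hz
    have hes : (e (s : G) : L) ≠ 1 := by
      intro h
      apply hs
      have h1 : e (s : G) = 1 := Subtype.ext h
      have h2 : (s : G) = 1 := by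
        have := e.injective (h1.trans (map_one e).symm)
        exact this
      exact Subtype.ext h2
    have h3 : (e (s : G) : L) * z * (e (s : G) : L)⁻¹ = z := by
      rw [← hθ, hz]
    exact Subtype.ext (hZf _ (e (s : G)).2 hes _ z.2 h3)
  have hinj : Function.Injective θ := by
    rw [injective_iff_map_eq_one]
    intro s hs
    by_contra hs1
    have h := hfix s hs1 ⟨z0, hz0⟩ (by rw [hs]; rfl)
    exact hz01 (congrArg Subtype.val h)
  -- the range
  let f : ↥S ≃* ↥θ.range := MonoidHom.ofInjective hinj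
  have hfpf : ∀ φ ∈ θ.range, φ ≠ 1 → ∀ k : ↥Z, φ k = k → k = 1 := by
    rintro φ ⟨s, rfl⟩ hφ k hk
    refine hfix s ?_ k hk
    rintro rfl
    exact hφ (map_one θ)
  have hperf : commutator ↥θ.range = ⊤ := by
    have h1 : Subgroup.map f.toMonoidHom (⊤ : Subgroup ↥S) = ⊤ :=
      Subgroup.map_top_of_surjective _ f.surjective
    have h2 := Subgroup.map_commutator (⊤ : Subgroup ↥S) ⊤ f.toMonoidHom
    rw [h1] at h2
    have h3 : (⁅(⊤ : Subgroup ↥S), ⊤⁆ : Subgroup ↥S) = ⊤ := hSperf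
    rw [h3, h1] at h2
    exact h2.symm
  have hne : θ.range ≠ ⊥ := by
    intro hbot
    apply hS1
    rw [Subgroup.eq_bot_iff_forall]
    intro s hs
    have h1 : θ ⟨s, hs⟩ ∈ θ.range := ⟨_, rfl⟩
    rw [hbot, Subgroup.mem_bot] at h1
    have h2 : (⟨s, hs⟩ : ↥S) = 1 := hinj (h1.trans (map_one θ).symm)
    exact congrArg Subtype.val h2
  obtain ⟨g⟩ := hub (K := ↥Z) θ.range hfpf hperf hne
  exact ⟨f.trans g⟩

end Cfsg.Agent.Lib.Helper71.FCZ
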